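import Mathlib
import Cfsg.Prelude.Def_ChevStructure
import Cfsg.Prelude.Def_ChevB2
import Cfsg.Agent.Lib.Helper5.B2T.Block
import Cfsg.Agent.Lib.Helper5.ChevSimple
import Cfsg.Agent.Lib.Helper5.ChevFieldMap
import Cfsg.Agent.Lib.Helper5.BNNormal

set_option autoImplicit false

/-!
The exceptional endomorphism `τ` of the Chevalley group of type `B₂` in characteristic 2, with
`τ(x_r(t)) = x_{π r}(t^{λ r})`.
-/

namespace Cfsg.Agent.Lib.Helper5.B2T

open Cfsg Cfsg.Lie Cfsg.Agent.Lib.Helper5.ChevSym Cfsg.Agent.Lib.Helper5.ChevSymP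
  Cfsg.Agent.Lib.Helper5.ChevStruct Cfsg.Agent.Lib.Helper5.Ree

theorem hB2 : chevB2 ∈ Seven := by simp [Seven]

variable {K : Type*} [Field K]

/-- the root elements -/
def gens (K : Type*) [Field K] : Set (GL chevB2.Idx K) :=
  {g | ∃ (r : ℕ) (t : K), g = xGL chevB2 hB2 r t}

theorem xGL_inv' (r : ℕ) (t : K) : (xGL chevB2 hB2 r t)⁻¹ = xGL chevB2 hB2 r (-t) := by
  apply Units.ext
  rfl

theorem xGL_of_not_lt (r : ℕ) (hr : ¬ r < 8) (t : K) : xGL chevB2 hB2 r t = 1 := by
  apply Units.ext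
  rw [xGL_val, Units.val_one]
  unfold ChevalleyDatum.x
  have hr' : ¬ r < chevB2.nroots := hr
  rw [dif_neg hr']

theorem gens_inv : (gens K)⁻¹ = gens K := by
  ext g
  constructor
  · rintro ⟨r, t, h⟩
    refine ⟨r, -t, ?_⟩
    rw [← xGL_inv', ← h, inv_inv]
  · rintro ⟨r, t, rfl⟩
    refine ⟨r, -t, ?_⟩
    rw [xGL_inv']

theorem group_eq_closure : chevB2.group K = Subgroup.closure (gens K) := by
  apply le_antisymm
  · unfold ChevalleyDatum.group
    rw [Subgroup.closure_le]
    rintro g ⟨r, t, hg⟩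
    apply Subgroup.subset_closure
    refine ⟨r.1, t, ?_⟩
    apply Units.ext
    rw [hg, xGL_val]
    unfold ChevalleyDatum.x
    rw [dif_pos r.2]
  · rw [Subgroup.closure_le]
    rintro g ⟨r, t, rfl⟩
    exact xGL_mem_group chevB2 hB2 r t

theorem mem_group_iff (g : GL chevB2.Idx K) :
    g ∈ chevB2.group K ↔ g ∈ Submonoid.closure (gens K) := by
  rw [group_eq_closure, ← Subgroup.mem_toSubmonoid, Subgroup.closure_toSubmonoid, gens_inv,
    Set.union_self]

/-- induction on the Chevalley group -/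
theorem group_induction {p : GL chevB2.Idx K → Prop} (h1 : p 1)
    (hx : ∀ (r : ℕ) (t : K), p (xGL chevB2 hB2 r t))
    (hmul : ∀ a b, a ∈ chevB2.group K → b ∈ chevB2.group K → p a → p b → p (a * b))
    (g : GL chevB2.Idx K) (hg : g ∈ chevB2.group K) : p g := by
  rw [mem_group_iff] at hg
  induction hg using Submonoid.closure_induction with
  | mem x hx' =>
    obtain ⟨r, t, rfl⟩ := hx'
    exact hx r t
  | one => exact h1
  | mul a b ha hb iha ihb =>
    exact hmul a b ((mem_group_iff a).2 ha) ((mem_group_iff b).2 hb) iha ihb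

section char2

variable [CharP K 2]

theorem two_eq_zero : ((2 : ℕ) : K) = 0 := CharP.cast_eq_zero K 2

/-- the elements of the Chevalley group leave `I` invariant -/
theorem group_bInv (g : GL chevB2.Idx K) (hg : g ∈ chevB2.group K) :
    BInv isQ (g : Matrix chevB2.Idx chevB2.Idx K) := by
  refine group_induction (p := fun g => BInv isQ (g : Matrix chevB2.Idx chevB2.Idx K))
    ?_ ?_ ?_ g hg
  · rw [Units.val_one]; exact bInv_one _
  · intro r t
    rw [xGL_val]
    exact x_bInv two_eq_zero r t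
  · intro a b _ _ ha hb
    rw [Units.val_mul]
    exact ha.mul _ hb

theorem piR_of_not_lt (r : ℕ) (hr : ¬ r < 8) : piR r = r := by
  unfold piR
  rw [List.getD_eq_default]
  simp only [List.length_cons, List.length_nil]
  omega

/-- every element has a partner -/
theorem exists_partner (g : GL chevB2.Idx K) (hg : g ∈ chevB2.group K) :
    ∃ g' ∈ chevB2.group K, BRel isQ betaI (g : Matrix chevB2.Idx chevB2.Idx K)
      (g' : Matrix chevB2.Idx chevB2.Idx K) := by
  refine group_induction (p := fun g => ∃ g' ∈ chevB2.group K,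
    BRel isQ betaI (g : Matrix chevB2.Idx chevB2.Idx K) (g' : Matrix chevB2.Idx chevB2.Idx K))
    ?_ ?_ ?_ g hg
  · exact ⟨1, one_mem _, by rw [Units.val_one]; exact bRel_one _ _⟩
  · intro r t
    by_cases hr : r < 8
    · refine ⟨xGL chevB2 hB2 (piR r) (t ^ lam r), xGL_mem_group _ _ _ _, ?_⟩
      rw [xGL_val, xGL_val]
      exact x_bRel two_eq_zero r hr t
    · refine ⟨1, one_mem _, ?_⟩
      rw [xGL_of_not_lt r hr, Units.val_one]
      exact bRel_one _ _
  · rintro a b ha hb ⟨a', ha', h1⟩ ⟨b', hb', h2⟩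
    refine ⟨a' * b', mul_mem ha' hb', ?_⟩
    rw [Units.val_mul, Units.val_mul]
    exact BRel.mul _ _ isQ_betaI (group_bInv a ha) (group_bInv b' hb') h1 h2

/-! ### The action on `I` is faithful -/

/-- the action on `I` -/
def iRep : ↥(chevB2.group K) →* Matrix {i : chevB2.Idx // ¬ isQ i} {i : chevB2.Idx // ¬ isQ i} K where
  toFun g := (g.1 : Matrix chevB2.Idx chevB2.Idx K).submatrix Subtype.val Subtype.val
  map_one' := by
    show ((1 : GL chevB2.Idx K) : Matrix chevB2.Idx chevB2.Idx K).submatrix Subtype.val Subtype.val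
      = 1
    rw [Units.val_one]
    exact Matrix.submatrix_one _ Subtype.val_injective
  map_mul' a b := by
    show ((a.1 * b.1 : GL chevB2.Idx K) : Matrix chevB2.Idx chevB2.Idx K).submatrix
      Subtype.val Subtype.val = _
    ext i j
    rw [Units.val_mul, Matrix.submatrix_apply, Matrix.mul_apply, Matrix.mul_apply]
    simp only [Matrix.submatrix_apply]
    rw [← Finset.sum_subtype (Finset.univ.filter fun k => ¬ isQ k) (by simp)
      (fun k => (a.1 : Matrix chevB2.Idx chevB2.Idx K) i.1 k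
        * (b.1 : Matrix chevB2.Idx chevB2.Idx K) k j.1), Finset.sum_filter]
    apply Finset.sum_congr rfl
    intro k _
    split_ifs with hk
    · rw [group_bInv b.1 b.2 k j.1 hk j.2, mul_zero]
    · rfl

omit [CharP K 2] in
theorem iRep_apply [CharP K 2] (g : ↥(chevB2.group K)) (i j : {i : chevB2.Idx // ¬ isQ i}) :
    iRep g i j = (g.1 : Matrix chevB2.Idx chevB2.Idx K) i.1 j.1 := rfl

omit [CharP K 2] in
theorem x2_entry (t : K) :
    chevB2.x K 2 t (Sum.inr ⟨2, by decide⟩) (Sum.inr ⟨5, by decide⟩) = -(t ^ 2) := by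
  rw [← xData_sound]
  have : xData chevB2 2 (code chevB2 (Sum.inr ⟨5, by decide⟩))
      = [(7, 1, 0), (4, -1, 2), (0, -1, 1), (1, 0, 1)] := by
    decide
  rw [this]
  simp [dataVal, code, show chevB2.rank = 2 from rfl]

omit [CharP K 2] in
theorem borel_entry (b : GL chevB2.Idx K) (hb : b ∈ chevB2.borelSubgroup K) :
    (b : Matrix chevB2.Idx chevB2.Idx K) (Sum.inr ⟨2, by decide⟩) (Sum.inr ⟨5, by decide⟩) = 0 := by
  by_contra hne
  have h := (borel_le_triSub chevB2 (by simp [SevenTypes]) hb).1 _ _ hne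
  revert h
  decide

theorem iRep_injective : Function.Injective (iRep (K := K)) := by
  have hker : (iRep (K := K)).ker = ⊥ := by
    rcases Cfsg.Agent.Lib.Helper5.BNNormal.normal_le_core_or_sup_eq_top (chevBNPair chevB2 hB2 K)
      (chevBNPair_irreducible chevB2 hB2) (iRep (K := K)).ker with h | h
    · have hc : (chevBNPair chevB2 hB2 K).B.normalCore = ⊥ := borel_normalCore chevB2 hB2
      rw [hc] at h
      exact le_bot_iff.1 h
    · exfalso
      have hg : (⟨xGL chevB2 hB2 2 1, xGL_mem_group _ _ _ _⟩ : ↥(chevB2.group K))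
          ∈ (chevBNPair chevB2 hB2 K).B ⊔ (iRep (K := K)).ker := by
        rw [h]; trivial
      obtain ⟨b, hb, k, hk, e⟩ := Subgroup.mem_sup_of_normal_right.1 hg
      rw [MonoidHom.mem_ker] at hk
      have e2 : iRep (K := K) ⟨xGL chevB2 hB2 2 1, xGL_mem_group _ _ _ _⟩ = iRep b := by
        rw [← e, map_mul, hk, mul_one]
      have hi : ¬ isQ (Sum.inr ⟨2, by decide⟩ : chevB2.Idx) := by decide
      have hj : ¬ isQ (Sum.inr ⟨5, by decide⟩ : chevB2.Idx) := by decide
      have := congrFun (congrFun e2 ⟨_, hi⟩) ⟨_, hj⟩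
      rw [iRep_apply, iRep_apply] at this
      simp only [xGL_val] at this
      have hb' : (b : GL chevB2.Idx K) ∈ chevB2.borelSubgroup K := hb
      rw [x2_entry, borel_entry _ hb'] at this
      simp at this
  intro a b hab
  have : a * b⁻¹ ∈ (iRep (K := K)).ker := by
    rw [MonoidHom.mem_ker, map_mul, hab, ← map_mul, mul_inv_cancel, map_one]
  rw [hker, Subgroup.mem_bot] at this
  exact mul_inv_eq_one.1 this

/-- a partner is unique -/
theorem partner_unique (g g' g'' : GL chevB2.Idx K) (hg' : g' ∈ chevB2.group K)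
    (hg'' : g'' ∈ chevB2.group K)
    (h1 : BRel isQ betaI (g : Matrix chevB2.Idx chevB2.Idx K) (g' : Matrix chevB2.Idx chevB2.Idx K))
    (h2 : BRel isQ betaI (g : Matrix chevB2.Idx chevB2.Idx K) (g'' : Matrix chevB2.Idx chevB2.Idx K)) :
    g' = g'' := by
  have : (⟨g', hg'⟩ : ↥(chevB2.group K)) = ⟨g'', hg''⟩ := by
    apply iRep_injective
    ext i j
    rw [iRep_apply, iRep_apply]
    have hi : isQ (betaI i.1) := (isQ_betaI i.1).2 i.2
    have hj : isQ (betaI j.1) := (isQ_betaI j.1).2 j.2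
    have e1 := h1 _ _ hi hj
    have e2 := h2 _ _ hi hj
    have bb : ∀ k : chevB2.Idx, betaI (betaI k) = k := betaF_betaF
    rw [bb, bb] at e1 e2
    rw [← e1, ← e2]
  exact congrArg Subtype.val this

/-! ### The endomorphism -/

/-- `τ` as a function -/
noncomputable def tauFun (g : ↥(chevB2.group K)) : ↥(chevB2.group K) :=
  ⟨Classical.choose (exists_partner g.1 g.2), (Classical.choose_spec (exists_partner g.1 g.2)).1⟩

theorem tauFun_spec (g : ↥(chevB2.group K)) :
    BRel isQ betaI (g.1 : Matrix chevB2.Idx chevB2.Idx K)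
      ((tauFun g).1 : Matrix chevB2.Idx chevB2.Idx K) :=
  (Classical.choose_spec (exists_partner g.1 g.2)).2

theorem tauFun_eq (g g' : ↥(chevB2.group K))
    (h : BRel isQ betaI (g.1 : Matrix chevB2.Idx chevB2.Idx K)
      (g'.1 : Matrix chevB2.Idx chevB2.Idx K)) : tauFun g = g' :=
  Subtype.ext (partner_unique g.1 _ _ (tauFun g).2 g'.2 (tauFun_spec g) h)

/-- the exceptional endomorphism `τ` of `B₂(K)`, `char K = 2` -/
noncomputable def tau : ↥(chevB2.group K) →* ↥(chevB2.group K) where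
  toFun := tauFun
  map_one' := tauFun_eq 1 1 (by
    show BRel isQ betaI ((1 : GL chevB2.Idx K) : Matrix chevB2.Idx chevB2.Idx K)
      ((1 : GL chevB2.Idx K) : Matrix chevB2.Idx chevB2.Idx K)
    rw [Units.val_one]; exact bRel_one _ _)
  map_mul' a b := tauFun_eq (a * b) (tauFun a * tauFun b) (by
    show BRel isQ betaI ((a.1 * b.1 : GL chevB2.Idx K) : Matrix chevB2.Idx chevB2.Idx K)
      (((tauFun a).1 * (tauFun b).1 : GL chevB2.Idx K) : Matrix chevB2.Idx chevB2.Idx K)
    rw [Units.val_mul, Units.val_mul]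
    exact BRel.mul _ _ isQ_betaI (group_bInv a.1 a.2) (group_bInv _ (tauFun b).2)
      (tauFun_spec a) (tauFun_spec b))

/-- the root element as an element of the Chevalley group -/
def xG (r : ℕ) (t : K) : ↥(chevB2.group K) := ⟨xGL chevB2 hB2 r t, xGL_mem_group _ _ _ _⟩

theorem tau_xG (r : ℕ) (t : K) : tau (xG r t) = xG (piR r) (t ^ lam r) := by
  apply tauFun_eq
  by_cases hr : r < 8
  · show BRel isQ betaI ((xGL chevB2 hB2 r t : GL chevB2.Idx K) : Matrix chevB2.Idx chevB2.Idx K)
      ((xGL chevB2 hB2 (piR r) (t ^ lam r) : GL chevB2.Idx K) : Matrix chevB2.Idx chevB2.Idx K)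
    rw [xGL_val, xGL_val]
    exact x_bRel two_eq_zero r hr t
  · show BRel isQ betaI ((xGL chevB2 hB2 r t : GL chevB2.Idx K) : Matrix chevB2.Idx chevB2.Idx K)
      ((xGL chevB2 hB2 (piR r) (t ^ lam r) : GL chevB2.Idx K) : Matrix chevB2.Idx chevB2.Idx K)
    rw [piR_of_not_lt r hr, xGL_of_not_lt r hr, xGL_of_not_lt r hr, Units.val_one]
    exact bRel_one _ _

end char2

end Cfsg.Agent.Lib.Helper5.B2T
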